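import Cfsg.Agent.Lib.Orders175560.Main
import Mathlib.Data.Nat.Factorization.PrimePow

/-!
The surviving configurations are impossible; the induction.
-/

set_option autoImplicit false

namespace CfsgLib.Orders175560

open Subgroup
open scoped Pointwise

variable {G : Type*} [Group G] [Finite G]

/-- Two primes with many singular elements inside a small subgroup. -/
theorem card_two_singular {H : Type*} [Group H] [Finite H] {p q : ℕ} [hp : Fact p.Prime]
    [hq : Fact q.Prime] (hp1 : p ∣ Nat.card H) (hp2 : ¬ p * p ∣ Nat.card H) (hq1 : q ∣ Nat.card H)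
    (hq2 : ¬ q * q ∣ Nat.card H) (P : Sylow p H) (Q : Sylow q H) (hne : q ≠ p)
    (hqP : ¬ q ∣ cOf P) :
    Nat.card (Sylow p H) * (p - 1) * cOf P + Nat.card (Sylow q H) * (q - 1) * cOf Q
      ≤ Nat.card {h : H // q ∣ orderOf h ∨ p ∣ orderOf h} := by
  refine (Nat.add_le_add (card_singular_le hp1 hp2 P) (card_singular_le hq1 hq2 Q)).trans ?_
  rw [← Nat.card_sum]
  refine Nat.card_le_card_of_injective
    (Sum.elim (fun g => ⟨g.1, Or.inr g.2.1⟩) (fun g => ⟨g.1, Or.inl g.2.1⟩)) ?_
  refine Function.Injective.sumElim (fun a b h => Subtype.ext (congrArg Subtype.val h :))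
    (fun a b h => Subtype.ext (congrArg Subtype.val h :)) ?_
  rintro ⟨g, hg1, hg2⟩ ⟨g', hg1', hg2'⟩ h
  obtain rfl : g = g' := congrArg Subtype.val h
  rcases hq.out.dvd_mul.mp (hg1'.trans hg2) with h | h
  · exact hne ((Nat.prime_dvd_prime_iff_eq hq.out hp.out).mp h)
  · exact hqP h

/-- The case with a subgroup `C(P)` of order `570`. -/
theorem not_config_five_seventy (h5 : 5 ∣ Nat.card G) (h5' : ¬ 5 * 5 ∣ Nat.card G)
    (h3 : 3 ∣ Nat.card G) (h3' : ¬ 3 * 3 ∣ Nat.card G) [Fact (Nat.Prime 19)] [Fact (Nat.Prime 5)]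
    [Fact (Nat.Prime 3)] (h19 : 19 ∣ Nat.card G) (h19' : ¬ 19 * 19 ∣ Nat.card G)
    (P : Sylow 19 G) (hC : cOf P = 30)
    (hr5 : ∀ Q : Sylow 5 G, rOf Q = 76) (hr3 : ∀ R : Sylow 3 G, rOf R = 76) : False := by
  set C := centralizer ((P : Subgroup G) : Set G) with hCdef
  have hcard : Nat.card C = 570 := by rw [hCdef, card_centralizer h19 h19' P, hC]
  have key : ∀ (p : ℕ) [Fact p.Prime], p ∣ Nat.card G → ¬ p * p ∣ Nat.card G → p ∣ 570 →
      ¬ p * p ∣ 570 → p ≠ 19 → (∀ Q : Sylow p G, rOf Q = 76) → ∀ Q : Sylow p C,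
      19 ∣ cOf Q ∧ Nat.card (Sylow p C) * (p * rOf Q) = 570 ∧ rOf Q ∣ 76 := by
    intro p _ hp1 hp2 hp570 hp570' hp19 hr Q
    have hq1 : p ∣ Nat.card C := hcard ▸ hp570
    have hq2 : ¬ p * p ∣ Nat.card C := by rw [hcard]; exact hp570'
    set Q₀ : Subgroup G := (Q : Subgroup C).map C.subtype with hQ₀
    have hQ₀c : Nat.card Q₀ = p := by
      rw [hQ₀, card_map_of_injective C.subtype_injective, card_sylow_eq_prime hq1 hq2 Q]
    obtain ⟨QG, hQG⟩ := (IsPGroup.of_card (p := p) (n := 1) (by rw [hQ₀c, pow_one])).exists_le_sylow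
    have hQGe : (QG : Subgroup G) = Q₀ := (eq_of_le_of_card_ge hQG (by
      rw [hQ₀c, card_sylow_eq_prime hp1 hp2 QG])).symm
    refine ⟨?_, card_eq_mul hq1 hq2 Q ▸ hcard ▸ rfl, ?_⟩
    · have hle : (P : Subgroup G).subgroupOf C ≤ centralizer ((Q : Subgroup C) : Set C) := by
        intro z hz
        rw [mem_centralizer_iff]
        intro w hw
        exact Subtype.ext (mem_centralizer_iff.mp w.2 _ hz).symm
      have h := Subgroup.card_dvd_of_le hle
      rw [Nat.card_congr (subgroupOfEquivOfLe (sylow_le_centralizer h19 h19' P)).toEquiv,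
        card_sylow_eq_prime h19 h19' P, card_centralizer hq1 hq2 Q] at h
      exact ((show Nat.Prime 19 by norm_num).dvd_mul.mp h).resolve_left
        fun h => hp19 ((Nat.prime_dvd_prime_iff_eq (by norm_num) Fact.out).mp h).symm
    · have hle : (normalizer ((Q : Subgroup C) : Set C)).map C.subtype ≤
          normalizer ((QG : Subgroup G) : Set G) := by
        rw [hQGe, hQ₀]
        exact le_normalizer_map C.subtype
      have h := Subgroup.card_dvd_of_le hle
      rw [card_map_of_injective C.subtype_injective, card_normalizer hp1 hp2 QG, hr QG,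
        card_normalizer hq1 hq2 Q] at h
      exact Nat.dvd_of_mul_dvd_mul_left (Nat.Prime.pos Fact.out) h
  obtain ⟨Q⟩ : Nonempty (Sylow 5 C) := inferInstance
  obtain ⟨R⟩ : Nonempty (Sylow 3 C) := inferInstance
  obtain ⟨hq19, hq570, hqr⟩ := key 5 h5 h5' (by norm_num) (by norm_num) (by norm_num) hr5 Q
  obtain ⟨hr19, hr570, hrr⟩ := key 3 h3 h3' (by norm_num) (by norm_num) (by norm_num) hr3 R
  have hQ1 : 5 ∣ Nat.card C := hcard ▸ (by norm_num)
  have hQ2 : ¬ 5 * 5 ∣ Nat.card C := by rw [hcard]; norm_num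
  have hR1 : 3 ∣ Nat.card C := hcard ▸ (by norm_num)
  have hR2 : ¬ 3 * 3 ∣ Nat.card C := by rw [hcard]; norm_num
  have hcr : ∀ {p : ℕ} [Fact p.Prime] (h1 : p ∣ Nat.card C) (h2 : ¬ p * p ∣ Nat.card C)
      (Q : Sylow p C), cOf Q ∣ rOf Q := by
    intro p hp h1 h2 Q
    have h := Subgroup.card_dvd_of_le (centralizer_le_normalizer ((Q : Subgroup C) : Set C))
    rw [card_centralizer h1 h2 Q, card_normalizer h1 h2 Q] at h
    exact Nat.dvd_of_mul_dvd_mul_left hp.out.pos h
  have hn5 : Nat.card (Sylow 5 C) % 5 = 1 := card_sylow_modEq_one 5 C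
  have hn3 : Nat.card (Sylow 3 C) % 3 = 1 := card_sylow_modEq_one 3 C
  have hc5 := hcr hQ1 hQ2 Q
  have hc3 := hcr hR1 hR2 R
  have h35 : ¬ 3 ∣ cOf Q := fun h => by
    have := (h.trans hc5).trans hqr
    norm_num at this
  have hle := card_two_singular hQ1 hQ2 hR1 hR2 Q R (by norm_num) h35
  have hlt : Nat.card {h : C // 3 ∣ orderOf h ∨ 5 ∣ orderOf h} < 570 := by
    classical
    have := Fintype.ofFinite C
    rw [← hcard, Nat.card_eq_fintype_card, Nat.card_eq_fintype_card]
    exact Fintype.card_subtype_lt (x := 1) (by simp)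
  have hq0 : rOf Q ≤ 76 := Nat.le_of_dvd (by norm_num) hqr
  have hr0 : rOf R ≤ 76 := Nat.le_of_dvd (by norm_num) hrr
  have hcq : 19 ≤ cOf Q := Nat.le_of_dvd (Nat.pos_of_ne_zero fun h => h35 (h ▸ dvd_zero 3)) hq19
  have hcr0 : 19 ≤ cOf R := Nat.le_of_dvd
    (Nat.pos_of_ne_zero fun h => not_dvd_cOf hR1 hR2 R (h ▸ dvd_zero 3)) hr19
  generalize Nat.card (Sylow 5 C) = a, rOf Q = b, cOf Q = x at *
  generalize Nat.card (Sylow 3 C) = a', rOf R = b', cOf R = x' at *
  have h1 : 6 ≤ a := by
    by_contra hlt6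
    have : a = 1 := by omega
    subst this
    obtain rfl : b = 114 := by omega
    omega
  have h2 : 10 ≤ a' := by
    by_contra hlt10
    have : a' = 1 ∨ a' = 4 ∨ a' = 7 := by omega
    rcases this with rfl | rfl | rfl <;> omega
  have h1' : 6 * 4 * 19 ≤ a * (5 - 1) * x := Nat.mul_le_mul (Nat.mul_le_mul h1 le_rfl) hcq
  have h2' : 10 * 2 * 19 ≤ a' * (3 - 1) * x' := Nat.mul_le_mul (Nat.mul_le_mul h2 le_rfl) hcr0
  omega

section Twenty

variable [Fact (Nat.Prime 19)] (h19 : 19 ∣ Nat.card G) (h19' : ¬ 19 * 19 ∣ Nat.card G)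
  (h20 : Nat.card (Sylow 19 G) = 20) (hc : ∀ P : Sylow 19 G, cOf P = 1)

include h19 h19' h20 hc in
/-- An element of order `5` cannot centralise one of order `3` normalising a Sylow `19`-subgroup. -/
theorem not_config_twenty_six [Fact (Nat.Prime 3)] [Fact (Nat.Prime 5)] (h3 : 3 ∣ Nat.card G)
    (h3' : ¬ 3 * 3 ∣ Nat.card G) (hr : ∀ P : Sylow 19 G, rOf P = 6) (R : Sylow 3 G)
    (hcR : 5 ∣ cOf R) : False := by
  classical
  obtain ⟨P⟩ : Nonempty (Sylow 19 G) := inferInstance
  have hN : Nat.card (normalizer ((P : Subgroup G) : Set G)) = 114 := by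
    rw [card_normalizer h19 h19' P, hr]
  obtain ⟨x, hx⟩ := exists_prime_orderOf_dvd_card' (G := normalizer ((P : Subgroup G) : Set G)) 3
    (by rw [hN]; norm_num)
  have hxo : orderOf (x : G) = 3 := by rw [orderOf_coe, hx]
  -- the Sylow `3`-subgroup generated by `x`
  obtain ⟨X, hX⟩ := (IsPGroup.of_card (p := 3) (n := 1)
    (show Nat.card (zpowers (x : G)) = 3 ^ 1 by rw [Nat.card_zpowers, hxo, pow_one])).exists_le_sylow
  obtain ⟨y, hy⟩ := exists_prime_orderOf_dvd_card' (G := centralizer ((X : Subgroup G) : Set G)) 5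
    (by rw [card_centralizer h3 h3' X, cOf_congr X R]; exact hcR.mul_left 3)
  have hyo : orderOf (y : G) = 5 := by rw [orderOf_coe, hy]
  have hyx : Commute (y : G) (x : G) :=
    (mem_centralizer_iff.mp y.2 _ (hX (mem_zpowers _))).symm
  have hx1 : (x : G) ≠ 1 := fun h => by rw [h, orderOf_one] at hxo; norm_num at hxo
  set F := {S : Sylow 19 G // (x : G) • S = S}
  have hF : Nat.card F ≤ 2 := fixed_le_two h19 h19' h20 hc hx1
  have hmove : ∀ S : Sylow 19 G, (x : G) • S = S → (x : G) • (y : G) • S = (y : G) • S := fun S h => by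
    rw [← mul_smul, ← hyx.eq, mul_smul, h]
  have hPx : (x : G) • P = P := Sylow.smul_eq_iff_mem_normalizer.mpr x.2
  have hyP : (y : G) • P = P := by
    by_contra hne
    have hne2 : (y : G) • (y : G) • P ≠ (y : G) • P := fun h => hne (smul_left_cancel _ h)
    have h2 : (y : G) • (y : G) • P = P := by
      by_contra h3
      have hlt : 2 < Nat.card F := by
        have := Fintype.ofFinite F
        rw [Nat.card_eq_fintype_card]
        refine Fintype.two_lt_card_iff.mpr ⟨⟨P, hPx⟩, ⟨_, hmove _ hPx⟩, ⟨_, hmove _ (hmove _ hPx)⟩,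
          ?_, ?_, ?_⟩
        · exact fun h => hne (congrArg Subtype.val h).symm
        · exact fun h => h3 (congrArg Subtype.val h).symm
        · exact fun h => hne2 (congrArg Subtype.val h).symm
      omega
    have h5 : (y : G) ^ 5 = 1 := hyo ▸ pow_orderOf_eq_one _
    apply hne
    conv_rhs => rw [← one_smul G P, ← h5]
    simp only [pow_succ, pow_zero, one_mul, mul_smul, h2]
  have hmem : (y : G) ∈ normalizer ((P : Subgroup G) : Set G) :=
    Sylow.smul_eq_iff_mem_normalizer.mp hyP
  have hd := orderOf_dvd_natCard (⟨(y : G), hmem⟩ : normalizer ((P : Subgroup G) : Set G))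
  rw [hN, orderOf_mk, hyo] at hd
  norm_num at hd

include h19 h19' h20 hc in
/-- The count in degree `20` for the order `760`. -/
theorem not_config_twenty_two [Fact (Nat.Prime 5)] (h5 : 5 ∣ Nat.card G) (h5' : ¬ 5 * 5 ∣ Nat.card G)
    (hr : ∀ P : Sylow 19 G, rOf P = 2) (hn5 : Nat.card (Sylow 5 G) = 76) (hm : Nat.card G = 760)
    (R : Sylow 5 G) (hcR : cOf R = 1) : False := by
  classical
  obtain ⟨P₀⟩ : Nonempty (Sylow 19 G) := inferInstance
  have := Fintype.ofFinite G
  have := Fintype.ofFinite (Sylow 19 G)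
  have hs19 := card_singular_le h19 h19' P₀
  have hs5 := card_singular_le h5 h5' R
  rw [h20, hc, mul_one, mul_one] at hs19
  rw [hn5, hcR, mul_one, mul_one] at hs5
  -- involutions of the stabilisers
  have hinv : ∀ P : Sylow 19 G, ∃ z : G, z • P = P ∧ orderOf z = 2 := by
    intro P
    obtain ⟨z, hz⟩ := exists_prime_orderOf_dvd_card' (G := normalizer ((P : Subgroup G) : Set G)) 2
      (by rw [card_normalizer h19 h19' P, hr]; norm_num)
    exact ⟨z, Sylow.smul_eq_iff_mem_normalizer.mpr z.2, by rw [orderOf_coe, hz]⟩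
  choose z hzP hzo using hinv
  -- an involution of each stabiliser and its conjugates under the Sylow subgroup
  let f : (Σ P : Sylow 19 G, ↥(P : Subgroup G)) → {g : G // orderOf g = 2} := fun s =>
    ⟨MulAut.conj (s.2 : G) (z s.1), by rw [MulEquiv.orderOf_eq, hzo]⟩
  have hfib : ∀ g : {g : G // orderOf g = 2},
      Nat.card {s : (Σ P : Sylow 19 G, ↥(P : Subgroup G)) // f s = g} ≤ 2 := by
    intro g
    have hg1 : g.1 ≠ 1 := fun h => by
      have := g.2; rw [h, orderOf_one] at this; norm_num at this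
    refine le_trans (Nat.card_le_card_of_injective (fun s => (⟨s.1.1, ?_⟩ :
      {R : Sylow 19 G // g.1 • R = R})) ?_) (fixed_le_two h19 h19' h20 hc hg1)
    · obtain ⟨⟨P, x⟩, rfl⟩ := s
      show (MulAut.conj (x : G) (z P)) • P = P
      have hxP : (x : G) • P = P := Sylow.smul_eq_iff_mem_normalizer.mpr (le_normalizer x.2)
      rw [MulAut.conj_apply, mul_smul, mul_smul, inv_smul_eq_iff.mpr hxP.symm, hzP, hxP]
    · rintro ⟨⟨P, x⟩, hx⟩ ⟨⟨P', x'⟩, hx'⟩ h
      obtain rfl : P = P' := congrArg Subtype.val h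
      have hxx : MulAut.conj (x : G) (z P) = MulAut.conj (x' : G) (z P) :=
        congrArg Subtype.val (hx.trans hx'.symm)
      obtain rfl : x = x' := by
        by_contra hne
        set w := (x' : G)⁻¹ * (x : G) with hw
        have hcz : Commute w (z P) := by
          rw [MulAut.conj_apply, MulAut.conj_apply] at hxx
          show w * z P = z P * w
          calc w * z P = (x' : G)⁻¹ * ((x : G) * z P * (x : G)⁻¹) * (x : G) := by rw [hw]; group
            _ = z P * w := by rw [hxx, hw]; group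
        have hw1 : w ≠ 1 := fun h => hne (Subtype.ext (inv_mul_eq_one.mp h).symm)
        have hwP : w ∈ (P : Subgroup G) := mul_mem (inv_mem x'.2) x.2
        have hzC : z P ∈ centralizer ((P : Subgroup G) : Set G) := by
          rw [← zpowers_eq_sylow h19 h19' hwP hw1, mem_centralizer_iff]
          intro v hv
          obtain ⟨k, rfl⟩ := mem_zpowers_iff.mp hv
          exact (hcz.zpow_left k).eq
        have hd := orderOf_dvd_natCard (⟨z P, hzC⟩ : centralizer ((P : Subgroup G) : Set G))
        rw [card_centralizer h19 h19' P, hc, mul_one, orderOf_mk, hzo] at hd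
        norm_num at hd
      rfl
  have hσ : Nat.card (Σ P : Sylow 19 G, ↥(P : Subgroup G)) = 380 := by
    rw [Nat.card_sigma, Finset.sum_congr rfl (fun P _ => card_sylow_eq_prime h19 h19' P),
      Finset.sum_const, smul_eq_mul, Finset.card_univ, ← Nat.card_eq_fintype_card, h20]
  have h380 : 380 ≤ 2 * Nat.card {g : G // orderOf g = 2} := by
    have := Fintype.ofFinite {g : G // orderOf g = 2}
    rw [← hσ, ← Nat.card_congr (Equiv.sigmaFiberEquiv f), Nat.card_sigma,
      Nat.card_eq_fintype_card (α := {g : G // orderOf g = 2}), ← Finset.card_univ, mul_comm,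
      ← smul_eq_mul, ← Finset.sum_const]
    exact Finset.sum_le_sum fun g _ => hfib g
  have htot : Nat.card {g : G // 19 ∣ orderOf g ∧ orderOf g ∣ 19} +
      Nat.card {g : G // 5 ∣ orderOf g ∧ orderOf g ∣ 5} +
      Nat.card {g : G // orderOf g = 2} < Nat.card G := by
    simp only [Nat.card_eq_fintype_card, Fintype.card_subtype]
    rw [← Finset.card_union_of_disjoint, ← Finset.card_union_of_disjoint, ← Finset.card_univ]
    · refine Finset.card_lt_card (Finset.ssubset_iff_of_subset (Finset.subset_univ _) |>.mpr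
        ⟨1, Finset.mem_univ 1, by simp⟩)
    · rw [Finset.disjoint_union_left]
      constructor <;>
      · rw [Finset.disjoint_left]
        intro g hg hg'
        simp only [Finset.mem_filter, Finset.mem_univ, true_and] at hg hg'
        rw [hg'] at hg
        norm_num at hg
    · rw [Finset.disjoint_left]
      intro g hg hg'
      simp only [Finset.mem_filter, Finset.mem_univ, true_and] at hg hg'
      have := hg'.1.trans hg.2
      norm_num at this
  omega

end Twenty

theorem rowOf_spec {p n c r : ℕ} [Fact p.Prime] (h1 : p ∣ Nat.card G) (h2 : ¬ p * p ∣ Nat.card G)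
    (h : rowOf G p = (p, n, c, r)) :
    Nat.card (Sylow p G) = n ∧ ∀ P : Sylow p G, cOf P = c ∧ rOf P = r := by
  simp only [rowOf, Prod.mk.injEq, true_and] at h
  exact ⟨h.1, fun P => ⟨(cOf_congr P _).trans h.2.1, (rOf_congr h1 h2 P _).trans h.2.2⟩⟩

theorem not_isSimpleGroup (hm : Nat.card G ∣ 175560) (hne : Nat.card G ≠ 175560)
    (h19 : 19 ∣ Nat.card G) (hlt : Nat.card G ≠ 19) : ¬ IsSimpleGroup G := by
  intro _
  have hps : (primesOf (Nat.card G)).Nodup := List.Nodup.filter _ (by decide)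
  have hs := mem_search hm h19 hlt (primesOf (Nat.card G)) [] (by simpa using hps) (by simp)
  rw [List.append_nil, List.map_nil] at hs
  have hall := search_complete
  rw [List.all_eq_true] at hall
  have hmem : Nat.card G ∈ divs.filter fun m => m % 19 == 0 && m != 175560 && m != 19 := by
    refine List.mem_filter.mpr ⟨mem_divs hm, ?_⟩
    simp [Nat.mod_eq_zero_of_dvd h19, hne, hlt]
  have h := hall _ hmem
  rw [List.all_eq_true] at h
  have hsurv := h _ hs
  rw [List.contains_iff_mem] at hsurv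
  have hrows : ∀ p : ℕ, ∀ row : Row, row.1 = p → row ∈ (primesOf (Nat.card G)).reverse.map (rowOf G) →
      p ∈ primesOf (Nat.card G) ∧ rowOf G p = row := by
    intro p row hp hrow
    obtain ⟨q, hq, rfl⟩ := List.mem_map.mp hrow
    subst hp
    exact ⟨List.mem_reverse.mp hq, rfl⟩
  have := Fact.mk (show Nat.Prime 19 by norm_num)
  have := Fact.mk (show Nat.Prime 5 by norm_num)
  have := Fact.mk (show Nat.Prime 3 by norm_num)
  have hdd : ∀ p ∈ primesOf (Nat.card G), p ∣ Nat.card G ∧ ¬ p * p ∣ Nat.card G :=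
    fun p hp => ⟨(isMember_primesOf hp).2, sq_not_dvd hm hp⟩
  simp only [survivors, List.mem_cons, List.not_mem_nil, or_false] at hsurv
  rcases hsurv with hs' | hs' | hs' | hs' <;> rw [hs'] at hrows
  · obtain ⟨h5, e5⟩ := hrows 5 (5, 76, 1, 2) rfl (by simp)
    obtain ⟨h19m, e19⟩ := hrows 19 (19, 20, 1, 2) rfl (by simp)
    obtain ⟨n19, f19⟩ := rowOf_spec (hdd _ h19m).1 (hdd _ h19m).2 e19
    obtain ⟨n5, f5⟩ := rowOf_spec (hdd _ h5).1 (hdd _ h5).2 e5
    refine not_config_twenty_two (hdd _ h19m).1 (hdd _ h19m).2 n19 (fun P => (f19 P).1) (hdd _ h5).1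
      (hdd _ h5).2 (fun P => (f19 P).2) n5 ?_ (Classical.arbitrary _) (f5 _).1
    rw [← card_eq_mul (hdd _ h19m).1 (hdd _ h19m).2 (Classical.arbitrary (Sylow 19 G)), n19,
      (f19 _).2]
  · obtain ⟨h3, e3⟩ := hrows 3 (3, 76, 5, 10) rfl (by simp)
    obtain ⟨h19m, e19⟩ := hrows 19 (19, 20, 1, 6) rfl (by simp)
    obtain ⟨n19, f19⟩ := rowOf_spec (hdd _ h19m).1 (hdd _ h19m).2 e19
    obtain ⟨-, f3⟩ := rowOf_spec (hdd _ h3).1 (hdd _ h3).2 e3
    exact not_config_twenty_six (hdd _ h19m).1 (hdd _ h19m).2 n19 (fun P => (f19 P).1) (hdd _ h3).1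
      (hdd _ h3).2 (fun P => (f19 P).2) (Classical.arbitrary _) (by rw [(f3 _).1])
  · obtain ⟨h3, e3⟩ := hrows 3 (3, 385, 38, 76) rfl (by simp)
    obtain ⟨h19m, e19⟩ := hrows 19 (19, 77, 30, 60) rfl (by simp)
    obtain ⟨h5, e5⟩ := hrows 5 (5, 231, 38, 76) rfl (by simp)
    obtain ⟨-, f19⟩ := rowOf_spec (hdd _ h19m).1 (hdd _ h19m).2 e19
    obtain ⟨-, f3⟩ := rowOf_spec (hdd _ h3).1 (hdd _ h3).2 e3
    obtain ⟨-, f5⟩ := rowOf_spec (hdd _ h5).1 (hdd _ h5).2 e5
    exact not_config_five_seventy (hdd _ h5).1 (hdd _ h5).2 (hdd _ h3).1 (hdd _ h3).2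
      (hdd _ h19m).1 (hdd _ h19m).2 (Classical.arbitrary _) (f19 _).1 (fun Q => (f5 Q).2)
      (fun R => (f3 R).2)
  · obtain ⟨h3, e3⟩ := hrows 3 (3, 385, 38, 76) rfl (by simp)
    obtain ⟨h19m, e19⟩ := hrows 19 (19, 77, 30, 60) rfl (by simp)
    obtain ⟨h5, e5⟩ := hrows 5 (5, 231, 19, 76) rfl (by simp)
    obtain ⟨-, f19⟩ := rowOf_spec (hdd _ h19m).1 (hdd _ h19m).2 e19
    obtain ⟨-, f3⟩ := rowOf_spec (hdd _ h3).1 (hdd _ h3).2 e3
    obtain ⟨-, f5⟩ := rowOf_spec (hdd _ h5).1 (hdd _ h5).2 e5
    exact not_config_five_seventy (hdd _ h5).1 (hdd _ h5).2 (hdd _ h3).1 (hdd _ h3).2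
      (hdd _ h19m).1 (hdd _ h19m).2 (Classical.arbitrary _) (f19 _).1 (fun Q => (f5 Q).2)
      (fun R => (f3 R).2)

theorem sylow_normal_or_simple : ∀ (d : ℕ) (G : Type*) [Group G] [Finite G], Nat.card G = d →
    d ∣ 175560 → ∀ [Fact (Nat.Prime 19)] (P : Sylow 19 G),
      (P : Subgroup G).Normal ∨ (d = 175560 ∧ IsSimpleGroup G) := by
  intro d
  induction d using Nat.strong_induction_on with
  | _ d ih =>
  intro G _ _ hd hdvd _ P
  by_cases h19 : 19 ∣ d
  swap
  · refine Or.inl ?_
    have : (P : Subgroup G) = ⊥ := by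
      rw [← Subgroup.card_eq_one]
      obtain ⟨k, hk⟩ := P.isPGroup'.exists_card_eq
      rcases k with _ | k
      · rw [hk, pow_zero]
      · refine absurd (dvd_trans ?_ (hd ▸ (P : Subgroup G).card_subgroup_dvd_card)) h19
        rw [hk]; exact dvd_pow_self _ (Nat.succ_ne_zero k)
    rw [this]; infer_instance
  by_cases hsimp : IsSimpleGroup G
  · by_cases hd0 : d = 175560
    · exact Or.inr ⟨hd0, hsimp⟩
    · by_cases hd19 : d = 19
      · refine Or.inl ?_
        have : (P : Subgroup G) = ⊤ := by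
          refine Subgroup.eq_top_of_card_eq _ ?_
          rw [card_sylow_eq_prime (hd ▸ h19) (by rw [hd, hd19]; norm_num) P, hd, hd19]
        rw [this]; infer_instance
      · exact absurd hsimp (not_isSimpleGroup (hd ▸ hdvd) (hd ▸ hd0) (hd ▸ h19) (hd ▸ hd19))
  refine Or.inl ?_
  have h19G : 19 ∣ Nat.card G := hd ▸ h19
  have h19G' : ¬ 19 * 19 ∣ Nat.card G := fun h => by
    have := h.trans (hd ▸ hdvd)
    norm_num at this
  have hnt : Nontrivial G := Finite.one_lt_card_iff_nontrivial.mp
    (lt_of_lt_of_le (by norm_num) (Nat.le_of_dvd Nat.card_pos h19G))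
  obtain ⟨N, hN, hN0, hN1⟩ : ∃ N : Subgroup G, N.Normal ∧ N ≠ ⊥ ∧ N ≠ ⊤ := by
    by_contra hno
    push Not at hno
    exact hsimp ⟨fun N hN => or_iff_not_imp_left.mpr (hno N hN)⟩
  -- a normal subgroup containing `P`, of smaller order
  have key : ∀ K : Subgroup G, K.Normal → (P : Subgroup G) ≤ K → K ≠ ⊤ → (P : Subgroup G).Normal := by
    intro K hK hPK hKt
    have hlt : Nat.card K < d := hd ▸ lt_of_le_of_ne
      (Nat.le_of_dvd Nat.card_pos K.card_subgroup_dvd_card)
      (fun h => hKt (Subgroup.eq_top_of_card_eq _ h))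
    rcases ih _ hlt K rfl (dvd_trans (hd ▸ K.card_subgroup_dvd_card) hdvd) (P.subtype hPK) with
      h | ⟨h, -⟩
    · have : ((P.subtype hPK : Sylow 19 K) : Subgroup K).Characteristic :=
        Sylow.characteristic_of_normal _ h
      have h' := ConjAct.normal_of_characteristic_of_normal (H := K)
        (K := ((P.subtype hPK : Sylow 19 K) : Subgroup K))
      rwa [Sylow.coe_subtype, map_subgroupOf_eq_of_le hPK] at h'
    · exact absurd (Nat.le_of_dvd (by norm_num) hdvd) (by omega)
  by_cases hN19 : 19 ∣ Nat.card N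
  · refine key N hN ?_ hN1
    obtain ⟨S⟩ : Nonempty (Sylow 19 N) := inferInstance
    have hScard : Nat.card ((S : Subgroup N).map N.subtype) = 19 := by
      rw [card_map_of_injective N.subtype_injective,
        card_sylow_eq_prime hN19 (fun h => h19G' (h.trans N.card_subgroup_dvd_card)) S]
    obtain ⟨S', hS'⟩ := (IsPGroup.of_card (p := 19) (n := 1) (by rw [hScard, pow_one])).exists_le_sylow
    have hSe : ((S : Subgroup N).map N.subtype) = (S' : Subgroup G) :=
      eq_of_le_of_card_ge hS' (by rw [hScard, card_sylow_eq_prime h19G h19G' S'])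
    obtain ⟨g, hg⟩ := MulAction.exists_smul_eq G S' P
    rw [← hg]
    intro x hx
    change x ∈ MulAut.conj g • (S' : Subgroup G) at hx
    rw [← hSe, mem_pointwise_smul_iff_inv_smul_mem] at hx
    have := hN.conj_mem _ (map_subtype_le _ hx) g
    simpa [mul_assoc] using this
  set K : Subgroup G := N ⊔ (P : Subgroup G) with hKdef
  have hPc := card_sylow_eq_prime h19G h19G' P
  have hKn : K.Normal := by
    set φ := QuotientGroup.mk' N with hφ
    have hφs : Function.Surjective φ := QuotientGroup.mk'_surjective N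
    have hq : Nat.card (G ⧸ N) < d := by
      have h := N.card_mul_index
      have h1 : 1 < Nat.card N := (one_lt_card_iff_ne_bot N).mpr hN0
      have h2 : 0 < N.index := Nat.pos_of_ne_zero index_ne_zero_of_finite
      show N.index < d
      rw [← hd, ← h]
      exact lt_mul_of_one_lt_left h2 h1
    rcases ih _ hq (G ⧸ N) rfl (dvd_trans (hd ▸ Subgroup.card_quotient_dvd_card N) hdvd)
        (P.mapSurjective hφs) with h | ⟨h, -⟩
    · have h' := h.comap φ
      rw [Sylow.coe_mapSurjective, comap_map_eq, QuotientGroup.ker_mk', sup_comm] at h'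
      exact h'
    · exact absurd (Nat.le_of_dvd (by norm_num) hdvd) (by omega)
  by_cases hKt : K = ⊤
  swap
  · exact key K hKn le_sup_right hKt
  -- `P` centralizes `N`
  have hNP : N ⊓ (P : Subgroup G) = ⊥ := by
    rw [← Subgroup.card_eq_one]
    refine Nat.eq_one_of_dvd_coprimes ((Nat.Prime.coprime_iff_not_dvd (by norm_num)).mpr hN19)
      (by have := card_dvd_of_le (inf_le_right : N ⊓ (P : Subgroup G) ≤ P); rwa [hPc] at this)
      (card_dvd_of_le inf_le_left)
  have hcent : (P : Subgroup G) ≤ centralizer (N : Set G) := by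
    rw [le_centralizer_iff]
    set C : Subgroup N := (centralizer ((P : Subgroup G) : Set G)).subgroupOf N with hC
    suffices C = ⊤ from subgroupOf_eq_top.mp this
    refine Subgroup.eq_top_of_le_card _ (Nat.le_of_dvd Nat.card_pos ?_)
    refine (Nat.dvd_iff_prime_pow_dvd_dvd _ _).mpr fun q k hq hqk => ?_
    have := Fact.mk hq
    rcases Nat.eq_zero_or_pos k with rfl | hk
    · rw [pow_zero]; exact one_dvd _
    -- a Sylow `q`-subgroup of `N` normalised by `P`
    obtain ⟨Q₀⟩ : Nonempty (Sylow q N) := inferInstance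
    obtain ⟨Q, hQP⟩ : ∃ Q : Sylow q N, (P : Subgroup G) ≤
        normalizer (((Q : Subgroup N).map N.subtype : Subgroup G) : Set G) := by
      have hsup := Sylow.normalizer_sup_eq_top (N := N) Q₀
      set M := normalizer (((Q₀ : Subgroup N).map N.subtype : Subgroup G) : Set G) with hM
      have hM19 : 19 ∣ Nat.card M := by
        have h19p : Nat.Prime 19 := by norm_num
        have h2 : N.relIndex (M ⊔ N) = N.relIndex M := relIndex_sup_right M N
        rw [hM, hsup, relIndex_top_right, ← hM] at h2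
        have h3 : 19 ∣ N.index :=
          ((Nat.Prime.dvd_mul h19p).mp (N.card_mul_index.symm ▸ h19G)).resolve_left hN19
        rw [h2] at h3
        exact h3.trans (relIndex_dvd_card N M)
      obtain ⟨S⟩ : Nonempty (Sylow 19 M) := inferInstance
      have hScard : Nat.card ((S : Subgroup M).map M.subtype) = 19 := by
        rw [card_map_of_injective M.subtype_injective,
          card_sylow_eq_prime hM19 (fun h => h19G' (h.trans M.card_subgroup_dvd_card)) S]
      obtain ⟨S', hS'⟩ := (IsPGroup.of_card (p := 19) (n := 1) (by rw [hScard, pow_one])).exists_le_sylow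
      have hSe : ((S : Subgroup M).map M.subtype) = (S' : Subgroup G) :=
        eq_of_le_of_card_ge hS' (by rw [hScard, card_sylow_eq_prime h19G h19G' S'])
      obtain ⟨g, hg⟩ := MulAction.exists_smul_eq G S' P
      refine ⟨(MulAut.conjNormal g : MulAut N) • Q₀, fun x hx => ?_⟩
      rw [← hg] at hx
      change x ∈ MulAut.conj g • (S' : Subgroup G) at hx
      rw [← hSe, mem_pointwise_smul_iff_inv_smul_mem] at hx
      have hx' : g⁻¹ * x * g ∈ M := by
        have := map_subtype_le _ hx
        simpa using this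
      have hmap : (((MulAut.conjNormal g : MulAut N) • Q₀ : Sylow q N) : Subgroup N).map N.subtype =
          ((Q₀ : Subgroup N).map N.subtype).map (MulAut.conj g).toMonoidHom := by
        show Subgroup.map N.subtype ((MulAut.conjNormal g : MulAut N) • (Q₀ : Subgroup N)) = _
        rw [Subgroup.pointwise_smul_def, Subgroup.map_map]
        erw [Subgroup.map_map]
        congr 1
      rw [hmap]
      refine le_normalizer_map _ ⟨g⁻¹ * x * g, hx', ?_⟩
      show g * (g⁻¹ * x * g) * g⁻¹ = x
      group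
    have hQle : (Q : Subgroup N) ≤ C := by
      intro y hy
      show (y : G) ∈ centralizer ((P : Subgroup G) : Set G)
      set Qg := (Q : Subgroup N).map N.subtype with hQg
      have hQsmall : Nat.card Qg < 19 := by
        rw [hQg, card_map_of_injective N.subtype_injective]
        obtain ⟨j, hj⟩ := Q.isPGroup'.exists_card_eq
        rw [hj]
        have h1 : q ^ j ∣ Nat.card N := hj ▸ card_subgroup_dvd_card _
        have h2 : q ^ j ∣ 175560 := h1.trans (N.card_subgroup_dvd_card.trans (hd ▸ hdvd))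
        rcases Nat.eq_zero_or_pos j with rfl | hj0
        · norm_num
        have hpp : IsPrimePow (q ^ j) := hq.isPrimePow.pow hj0.ne'
        rw [show (175560 : ℕ) = 8 * 3 * 5 * 7 * 11 * 19 by norm_num] at h2
        rcases (Nat.Coprime.isPrimePow_dvd_mul (by norm_num) hpp).mp h2 with h2 | h2
        · rcases (Nat.Coprime.isPrimePow_dvd_mul (by norm_num) hpp).mp h2 with h2 | h2
          · rcases (Nat.Coprime.isPrimePow_dvd_mul (by norm_num) hpp).mp h2 with h2 | h2
            · rcases (Nat.Coprime.isPrimePow_dvd_mul (by norm_num) hpp).mp h2 with h2 | h2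
              · rcases (Nat.Coprime.isPrimePow_dvd_mul (by norm_num) hpp).mp h2 with h2 | h2 <;>
                  · have := Nat.le_of_dvd (by norm_num) h2; omega
              · have := Nat.le_of_dvd (by norm_num) h2; omega
            · have := Nat.le_of_dvd (by norm_num) h2; omega
          · have := Nat.le_of_dvd (by norm_num) h2; omega
        · rcases (Nat.dvd_prime (by norm_num)).mp h2 with h | h
          · rw [h]; norm_num
          · exact absurd (h ▸ h1) hN19
      have hyQ : (y : G) ∈ Qg := mem_map_of_mem _ hy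
      -- the orbit of `y` under `P` has fewer than `19` points
      rw [mem_centralizer_iff]
      intro x hx
      by_contra hne
      let f : ↥(zpowers x) → ↥Qg := fun w => ⟨(w : G) * y * (w : G)⁻¹,
        (mem_normalizer_iff.mp (hQP (zpowers_le.mpr hx w.2)) _).mp hyQ⟩
      have hxc : Nat.card (zpowers x) = 19 := by
        rw [zpowers_eq_sylow h19G h19G' hx (fun h => hne (by rw [h, one_mul, mul_one])), hPc]
      have hinj : Function.Injective f := by
        rintro ⟨a, ha⟩ ⟨b, hb⟩ hab
        by_contra hab'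
        have hab2 : a * y * a⁻¹ = b * y * b⁻¹ := congrArg Subtype.val hab
        have hw : b⁻¹ * a ∈ zpowers x := mul_mem (inv_mem hb) ha
        have hw1 : b⁻¹ * a ≠ 1 := fun h => hab' (Subtype.ext (inv_mul_eq_one.mp h).symm)
        have hgen : zpowers (b⁻¹ * a) = zpowers x := eq_of_le_of_card_ge (zpowers_le.mpr hw) (by
          rw [hxc, zpowers_eq_sylow h19G h19G' (zpowers_le.mpr hx hw) hw1, hPc])
        obtain ⟨k, hk⟩ := mem_zpowers_iff.mp (hgen.symm ▸ mem_zpowers x : x ∈ zpowers (b⁻¹ * a))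
        have hc : Commute (b⁻¹ * a) (y : G) := by
          show b⁻¹ * a * y = y * (b⁻¹ * a)
          calc b⁻¹ * a * y = b⁻¹ * (a * y * a⁻¹) * a := by group
            _ = y * (b⁻¹ * a) := by rw [hab2]; group
        exact hne (hk ▸ (hc.zpow_left k).eq)
      have := Nat.card_le_card_of_injective f hinj
      omega
    exact ((Sylow.pow_dvd_card_of_pow_dvd_card Q hqk).trans (Subgroup.card_dvd_of_le hQle))
  have hcs : ∀ g : G, g ∈ normalizer ((P : Subgroup G) : Set G) := by
    intro g
    have hle : N ⊔ (P : Subgroup G) ≤ normalizer ((P : Subgroup G) : Set G) :=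
      sup_le ((le_centralizer_iff.mp hcent).trans (centralizer_le_normalizer _)) le_normalizer
    exact hle (hKdef ▸ hKt ▸ mem_top g)
  exact ⟨fun x hx g => (mem_normalizer_iff.mp (hcs g) x).mp hx⟩

end CfsgLib.Orders175560
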