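import Mathlib.Tactic.IntervalCases
import Mathlib.Tactic.NormNum.Prime
import Mathlib.Algebra.Divisibility.Prod
import Mathlib.Algebra.Order.Ring.Nat
import Mathlib.Data.Nat.Prime.Basic

/-!
The arithmetic search behind the non-existence of simple groups of order properly dividing
`175560 = 8 * 3 * 5 * 7 * 11 * 19` with more than one Sylow subgroup for the prime `19`.
-/

set_option autoImplicit false

namespace CfsgLib.Orders175560

/-- The divisors of `175560`. -/
def divs : List ℕ :=
  [1, 2, 4, 8].flatMap fun a => [1, 3].flatMap fun b => [1, 5].flatMap fun c => [1, 7].flatMap fun d =>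
    [1, 11].flatMap fun e => [1, 19].map fun f => a * b * c * d * e * f

/-- The data `(p, n, c, r)` at a prime `p`: `n` Sylow subgroups, centralizer order `p * c`,
normalizer order `p * r`. -/
abbrev Row : Type := ℕ × ℕ × ℕ × ℕ

def cands (m p : ℕ) : List Row :=
  (divs.filter fun n => n != 1 && (m / p) % n == 0 && n % p == 1).flatMap fun n =>
    ((List.range 19).filter fun e => decide (1 < e) && (m / p / n) % e == 0 && (p - 1) % e == 0 &&
      (!(p == 19 && n == 20) || m / p / n == e)).map fun e => (p, n, m / p / n / e, m / p / n)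

/-- Compatibility of the data at two primes. -/
def comp (a b : Row) : Bool :=
  a.2.2.1 % b.1 != 0 ||
    (b.2.2.1 % a.1 == 0 &&
      ((divs.any fun d => decide (1 < d) && (a.2.2.1 / b.1) % d == 0 && d % b.1 == 1) ||
        (b.1 * b.2.2.2) % (a.1 * a.2.2.2) == 0))

/-- A lower bound for the number of non-identity elements, the rows taken from the last to the first. -/
def count : List Row → ℕ
  | [] => 0
  | a :: l => count l + a.2.1 * (a.1 - 1) * (if l.all (fun b => a.2.2.1 % b.1 != 0) then a.2.2.1 else 1)

def search (m : ℕ) : List ℕ → List Row → List (List Row)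
  | [], acc => if m ≤ count acc then [] else [acc]
  | p :: ps, acc =>
    if m ≤ count acc then []
    else (cands m p).flatMap fun a =>
      if acc.all (fun b => comp a b && comp b a) then search m ps (a :: acc) else []

def primesOf (m : ℕ) : List ℕ :=
  [19, 11, 7, 5, 3].filter fun p => m % p == 0

theorem mem_divs {d : ℕ} (h : d ∣ 175560) : d ∈ divs := by
  rw [show (175560 : ℕ) = 8 * 3 * 5 * 7 * 11 * 19 by norm_num] at h
  obtain ⟨d5, f, h5, hf, rfl⟩ := Nat.dvd_mul.mp h
  obtain ⟨d4, e, h4, he, rfl⟩ := Nat.dvd_mul.mp h5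
  obtain ⟨d3, d', h3, hd', rfl⟩ := Nat.dvd_mul.mp h4
  obtain ⟨d2, c, h2, hc, rfl⟩ := Nat.dvd_mul.mp h3
  obtain ⟨a, b, ha, hb, rfl⟩ := Nat.dvd_mul.mp h2
  have hp : ∀ {p x : ℕ}, p.Prime → x ∣ p → x = 1 ∨ x = p := fun hp hx => (Nat.dvd_prime hp).mp hx
  have ha' : a = 1 ∨ a = 2 ∨ a = 4 ∨ a = 8 := by
    have := Nat.le_of_dvd (by norm_num) ha
    interval_cases a <;> omega
  simp only [divs, List.mem_flatMap, List.mem_map, List.mem_cons, List.not_mem_nil, or_false]
  exact ⟨a, ha', b, hp Nat.prime_three hb, c, hp (by norm_num) hc, d', hp (by norm_num) hd', e,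
    hp (by norm_num) he, f, hp (by norm_num) hf, rfl⟩

/-- The only arithmetically consistent configurations. -/
def survivors : List (List Row) :=
  [[(5, 76, 1, 2), (19, 20, 1, 2)],
   [(3, 76, 5, 10), (5, 76, 3, 6), (19, 20, 1, 6)],
   [(3, 385, 38, 76), (5, 231, 38, 76), (7, 4180, 1, 3), (11, 1596, 1, 5), (19, 77, 30, 60)],
   [(3, 385, 38, 76), (5, 231, 19, 76), (7, 4180, 1, 3), (11, 1596, 1, 5), (19, 77, 30, 60)]]

theorem search_complete :
    (divs.filter fun m => m % 19 == 0 && m != 175560 && m != 19).all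
      (fun m => (search m (primesOf m) []).all fun s => survivors.contains s) = true := by
  decide +kernel

end CfsgLib.Orders175560
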