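import Cfsg.Agent.Lib.Perm.SimpleCount
import Cfsg.Agent.Lib.Orders175560.Search
import Mathlib.GroupTheory.SpecificGroups.Cyclic
import Mathlib.GroupTheory.Subgroup.Centralizer

/-!
The local data at a prime dividing the group order exactly once.
-/

set_option autoImplicit false

namespace CfsgLib.Orders175560

open Subgroup
open scoped Pointwise

variable {G : Type*} [Group G] [Finite G] {p : ℕ} [hp : Fact p.Prime]

theorem card_sylow_eq_prime (h1 : p ∣ Nat.card G) (h2 : ¬ p * p ∣ Nat.card G) (P : Sylow p G) :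
    Nat.card P = p := by
  obtain ⟨k, hk⟩ := P.isPGroup'.exists_card_eq
  have hd : p ∣ Nat.card P := P.dvd_card_of_dvd_card h1
  rcases k with _ | _ | k
  · rw [hk, pow_zero] at hd; exact absurd hd hp.out.not_dvd_one
  · rw [hk]; simp
  · refine absurd ((dvd_trans ⟨p ^ k, ?_⟩ (P : Subgroup G).card_subgroup_dvd_card)) h2
    rw [hk]; ring

/-- `|C(P)| / p`. -/
noncomputable def cOf (P : Sylow p G) : ℕ :=
  Nat.card (centralizer ((P : Subgroup G) : Set G)) / p

/-- `|N(P)| / p`. -/
noncomputable def rOf (P : Sylow p G) : ℕ :=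
  Nat.card (normalizer ((P : Subgroup G) : Set G)) / p

variable (h1 : p ∣ Nat.card G) (h2 : ¬ p * p ∣ Nat.card G) (P : Sylow p G)

include h1 h2 in
theorem isMulCommutative_sylow : IsMulCommutative (P : Subgroup G) := by
  have := isCyclic_of_prime_card (card_sylow_eq_prime h1 h2 P)
  infer_instance

include h1 h2 in
theorem sylow_le_centralizer : (P : Subgroup G) ≤ centralizer ((P : Subgroup G) : Set G) := by
  have := isMulCommutative_sylow h1 h2 P
  exact le_centralizer _

include h1 h2 in
theorem card_centralizer : Nat.card (centralizer ((P : Subgroup G) : Set G)) = p * cOf P := by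
  rw [cOf, Nat.mul_div_cancel']
  have h := Subgroup.card_dvd_of_le (sylow_le_centralizer h1 h2 P)
  rwa [card_sylow_eq_prime h1 h2 P] at h

include h1 h2 in
theorem card_normalizer : Nat.card (normalizer ((P : Subgroup G) : Set G)) = p * rOf P := by
  rw [rOf, Nat.mul_div_cancel']
  have h := Subgroup.card_dvd_of_le (le_normalizer (H := (P : Subgroup G)))
  rwa [card_sylow_eq_prime h1 h2 P] at h

include h1 h2 in
theorem card_eq_mul : Nat.card (Sylow p G) * (p * rOf P) = Nat.card G := by
  rw [← card_normalizer h1 h2 P, Sylow.card_eq_index_normalizer P]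
  exact Subgroup.index_mul_card (normalizer ((P : Subgroup G) : Set G))

include h1 h2 in
theorem not_dvd_cOf : ¬ p ∣ cOf P := fun h => h2 <| by
  refine dvd_trans ?_ (Subgroup.card_subgroup_dvd_card (centralizer ((P : Subgroup G) : Set G)))
  rw [card_centralizer h1 h2 P]
  exact mul_dvd_mul_left p h

/-- `cOf` does not depend on the Sylow subgroup. -/
theorem cOf_congr (P Q : Sylow p G) : cOf P = cOf Q := by
  obtain ⟨g, rfl⟩ := MulAction.exists_smul_eq G P Q
  have h : centralizer (((g • P : Sylow p G) : Subgroup G) : Set G) =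
      (centralizer ((P : Subgroup G) : Set G)).map (MulAut.conj g).toMonoidHom := by
    ext x
    rw [mem_map_equiv, MulAut.conj_symm_apply]
    simp only [mem_centralizer_iff, SetLike.mem_coe]
    constructor
    · intro hx y hy
      have := hx (g * y * g⁻¹) (by
        show g * y * g⁻¹ ∈ MulAut.conj g • (P : Subgroup G)
        rw [mem_pointwise_smul_iff_inv_smul_mem]
        simpa [mul_assoc] using hy)
      calc y * (g⁻¹ * x * g) = g⁻¹ * ((g * y * g⁻¹) * x) * g := by group
        _ = g⁻¹ * (x * (g * y * g⁻¹)) * g := by rw [this]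
        _ = g⁻¹ * x * g * y := by group
    · intro hx y hy
      have hy' : g⁻¹ * y * g ∈ (P : Subgroup G) := by
        change y ∈ MulAut.conj g • (P : Subgroup G) at hy
        rw [mem_pointwise_smul_iff_inv_smul_mem] at hy
        simpa using hy
      have := hx _ hy'
      calc y * x = g * ((g⁻¹ * y * g) * (g⁻¹ * x * g)) * g⁻¹ := by group
        _ = g * ((g⁻¹ * x * g) * (g⁻¹ * y * g)) * g⁻¹ := by rw [this]
        _ = x * y := by group
  rw [cOf, cOf, h, card_map_of_injective (MulAut.conj g).injective]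

theorem rOf_congr (h1 : p ∣ Nat.card G) (h2 : ¬ p * p ∣ Nat.card G) (P Q : Sylow p G) :
    rOf P = rOf Q := by
  have h := (card_eq_mul h1 h2 P).trans (card_eq_mul h1 h2 Q).symm
  exact Nat.eq_of_mul_eq_mul_left hp.out.pos (Nat.eq_of_mul_eq_mul_left Nat.card_pos h)

include h1 h2 in
/-- `r = e c` with `e ∣ p - 1`, and `e > 1` in a simple group which is not a `p`-group. -/
theorem exists_ratio [IsSimpleGroup G] (hne : ¬ IsPGroup p G) :
    ∃ e, 1 < e ∧ e ∣ p - 1 ∧ rOf P = e * cOf P := by
  set N := normalizer ((P : Subgroup G) : Set G)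
  set C := centralizer ((P : Subgroup G) : Set G)
  have hCN : C ≤ N := centralizer_le_normalizer _
  have hcy := isCyclic_of_prime_card (card_sylow_eq_prime h1 h2 P)
  refine ⟨C.relIndex N, ?_, ?_, ?_⟩
  · have h0 : C.relIndex N ≠ 0 := index_ne_zero_of_finite
    have : C.relIndex N ≠ 1 := fun h =>
      CfsgLib.Perm.not_normalizer_le_centralizer P h1 hne (relIndex_eq_one.mp h)
    omega
  · have h := Subgroup.card_subgroup_dvd_card ((P : Subgroup G).normalizerMonoidHom).range
    rw [← Subgroup.index_ker, normalizerMonoidHom_ker, IsCyclic.card_mulAut,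
      card_sylow_eq_prime h1 h2 P, Nat.totient_prime hp.out] at h
    exact h
  · have h := relIndex_mul_relIndex (⊥ : Subgroup G) C N bot_le hCN
    rw [relIndex_bot_left, relIndex_bot_left, card_centralizer h1 h2 P,
      card_normalizer h1 h2 P, mul_assoc] at h
    exact (Nat.eq_of_mul_eq_mul_left hp.out.pos (h.symm.trans (by rw [mul_comm (cOf P)])))

variable {q : ℕ} [hq : Fact q.Prime] (hq1 : q ∣ Nat.card G) (hq2 : ¬ q * q ∣ Nat.card G)

include h1 h2 hq1 hq2 in
/-- If `q` divides `c_p`, a Sylow `q`-subgroup centralises `P`, and conversely `p` divides `c_q`. -/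
theorem exists_centralizing (hne : q ≠ p) (hqc : q ∣ cOf P) :
    ∃ Q : Sylow q G, (Q : Subgroup G) ≤ centralizer ((P : Subgroup G) : Set G) ∧
      (P : Subgroup G) ≤ centralizer ((Q : Subgroup G) : Set G) ∧ p ∣ cOf Q := by
  set C := centralizer ((P : Subgroup G) : Set G) with hC
  obtain ⟨y, hy⟩ := exists_prime_orderOf_dvd_card' (G := C) q
    (by rw [hC, card_centralizer h1 h2 P]; exact hqc.mul_left p)
  have hy' : orderOf (y : G) = q := by rw [← hy, orderOf_coe]
  obtain ⟨Q, hQ⟩ := (IsPGroup.of_card (p := q) (n := 1)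
    (show Nat.card (zpowers (y : G)) = q ^ 1 by rw [Nat.card_zpowers, hy', pow_one])).exists_le_sylow
  have hQe : (Q : Subgroup G) = zpowers (y : G) := (eq_of_le_of_card_ge hQ (by
    rw [Nat.card_zpowers, hy', card_sylow_eq_prime hq1 hq2 Q])).symm
  have hQC : (Q : Subgroup G) ≤ C := by rw [hQe, zpowers_le]; exact y.2
  have hPC : (P : Subgroup G) ≤ centralizer ((Q : Subgroup G) : Set G) :=
    le_centralizer_iff.mp hQC
  refine ⟨Q, hQC, hPC, ?_⟩
  have hd := Subgroup.card_dvd_of_le hPC
  rw [card_sylow_eq_prime h1 h2 P, card_centralizer hq1 hq2 Q] at hd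
  exact (hp.out.dvd_mul.mp hd).resolve_left
    (fun h => hne ((Nat.prime_dvd_prime_iff_eq hp.out hq.out).mp h).symm)

include h1 h2 hq1 hq2 in
/-- Either `C(P)` has several Sylow `q`-subgroups, or `N(P) ≤ N(Q)`. -/
theorem sylow_in_centralizer (hne : q ≠ p) (hqc : q ∣ cOf P) :
    (∃ d, 1 < d ∧ d ∣ cOf P / q ∧ d % q = 1) ∨
      (∀ Q : Sylow q G, p * rOf P ∣ q * rOf Q) := by
  obtain ⟨Q, hQC, hPC, -⟩ := exists_centralizing h1 h2 P hq1 hq2 hne hqc
  set C := centralizer ((P : Subgroup G) : Set G) with hC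
  have hQc : Nat.card Q = q := card_sylow_eq_prime hq1 hq2 Q
  let Q' : Sylow q C := Q.subtype hQC
  rcases eq_or_ne (Nat.card (Sylow q C)) 1 with hd1 | hd1
  · refine Or.inr fun Q₂ => ?_
    rw [rOf_congr hq1 hq2 Q₂ Q, ← card_normalizer h1 h2 P, ← card_normalizer hq1 hq2 Q]
    refine Subgroup.card_dvd_of_le fun g hg => ?_
    have hgC : ∀ z ∈ C, g * z * g⁻¹ ∈ C := by
      intro z hz
      rw [hC, mem_centralizer_iff] at hz ⊢
      intro x hx
      have hx' : g⁻¹ * x * g ∈ (P : Subgroup G) := by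
        have := (mem_normalizer_iff.mp (inv_mem hg) x).mp hx
        simpa using this
      have := hz _ hx'
      calc x * (g * z * g⁻¹) = g * ((g⁻¹ * x * g) * z) * g⁻¹ := by group
        _ = g * (z * (g⁻¹ * x * g)) * g⁻¹ := by rw [this]
        _ = g * z * g⁻¹ * x := by group
    have hle : (((g • Q : Sylow q G)) : Subgroup G) ≤ C := by
      intro z hz
      change z ∈ MulAut.conj g • (Q : Subgroup G) at hz
      rw [mem_pointwise_smul_iff_inv_smul_mem] at hz
      have hz' : g⁻¹ * z * g ∈ (Q : Subgroup G) := by simpa using hz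
      have := hgC _ (hQC hz')
      rwa [show g * (g⁻¹ * z * g) * g⁻¹ = z by group] at this
    have : Subsingleton (Sylow q C) := (Nat.card_eq_one_iff_unique.mp hd1).1
    have heq : (g • Q).subtype hle = Q.subtype hQC := Subsingleton.elim _ _
    show g ∈ normalizer (Q : Set G)
    rw [← Sylow.smul_eq_iff_mem_normalizer]
    exact Sylow.subtype_injective heq
  · refine Or.inl ⟨Nat.card (Sylow q C), by
      have : 0 < Nat.card (Sylow q C) := Nat.card_pos
      omega, ?_, ?_⟩
    · set NQ := normalizer ((Q' : Subgroup C) : Set C) with hNQ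
      have hsub : ((Q : Subgroup G).subgroupOf C) = (Q' : Subgroup C) := rfl
      have hP' : (P : Subgroup G).subgroupOf C ≤ NQ := by
        intro z hz
        refine centralizer_le_normalizer _ (fun w hw => Subtype.ext ?_)
        exact mem_centralizer_iff.mp (hPC hz) w.1 hw
      have h3 : p ∣ Nat.card NQ := by
        refine dvd_trans ?_ (Subgroup.card_dvd_of_le hP')
        rw [Nat.card_congr (subgroupOfEquivOfLe (sylow_le_centralizer h1 h2 P)).toEquiv,
          card_sylow_eq_prime h1 h2 P]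
      have h4 : q ∣ Nat.card NQ := by
        refine dvd_trans ?_ (Subgroup.card_dvd_of_le le_normalizer)
        rw [← hsub, Nat.card_congr (subgroupOfEquivOfLe hQC).toEquiv, hQc]
      obtain ⟨k, hk⟩ := Nat.Coprime.mul_dvd_of_dvd_of_dvd
        ((Nat.coprime_primes hp.out hq.out).mpr hne.symm) h3 h4
      have h5 : Nat.card (Sylow q C) * Nat.card NQ = p * cOf P := by
        rw [← card_centralizer h1 h2 P, Sylow.card_eq_index_normalizer Q']
        exact Subgroup.index_mul_card NQ
      rw [hk] at h5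
      obtain ⟨c', hc'⟩ := hqc
      rw [hc', Nat.mul_div_cancel_left _ hq.out.pos]
      refine ⟨k, Nat.eq_of_mul_eq_mul_left (Nat.mul_pos hp.out.pos hq.out.pos) ?_⟩
      rw [hc'] at h5
      linarith
    · have h : Nat.card (Sylow q C) % q = 1 % q := card_sylow_modEq_one q C
      rwa [Nat.one_mod_eq_one.mpr hq.out.ne_one] at h

include h1 h2 in
/-- The elements with `p` dividing the order inside the centralizers of the Sylow subgroups. -/
theorem card_singular_le :
    Nat.card (Sylow p G) * (p - 1) * cOf P ≤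
      Nat.card {g : G // p ∣ orderOf g ∧ orderOf g ∣ p * cOf P} := by
  set c := cOf P with hc
  have hnd : ¬ p ∣ c := not_dvd_cOf h1 h2 P
  have hcop : p.Coprime c := (hp.out.coprime_iff_not_dvd).mpr hnd
  have hc0 : 0 < c := Nat.pos_of_ne_zero fun h => hnd (h ▸ dvd_zero p)
  have : NeZero c := ⟨hc0.ne'⟩
  set u := ((p : ZMod c)⁻¹).val with hu
  have hu1 : p * u ≡ 1 [MOD c] := by
    refine (ZMod.natCast_eq_natCast_iff _ _ _).mp ?_
    rw [Nat.cast_mul, hu, ZMod.natCast_zmod_val, Nat.cast_one, ZMod.coe_mul_inv_eq_one p hcop]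
  let Cq := fun R : Sylow p G => centralizer ((R : Subgroup G) : Set G)
  have hnorm : ∀ R : Sylow p G, ((R : Subgroup G).subgroupOf (Cq R)).Normal := fun R =>
    ⟨fun x hx z => by
      rw [mem_subgroupOf] at hx ⊢
      show (z : G) * x * (z : G)⁻¹ ∈ (R : Subgroup G)
      rwa [← (mem_centralizer_iff.mp z.2 _ hx), mul_inv_cancel_right]⟩
  have hidx : ∀ R : Sylow p G, ((R : Subgroup G).subgroupOf (Cq R)).index = c := by
    intro R
    have h := ((R : Subgroup G).subgroupOf (Cq R)).card_mul_index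
    rw [Nat.card_congr (subgroupOfEquivOfLe (sylow_le_centralizer h1 h2 R)).toEquiv,
      card_sylow_eq_prime h1 h2 R, card_centralizer h1 h2 R, cOf_congr R P] at h
    exact Nat.eq_of_mul_eq_mul_left hp.out.pos h
  let D := Σ R : Sylow p G, {x : (R : Subgroup G) // x ≠ 1} ×
    ((Cq R) ⧸ ((R : Subgroup G).subgroupOf (Cq R)))
  have hD : Nat.card D = Nat.card (Sylow p G) * (p - 1) * c := by
    have := Fintype.ofFinite (Sylow p G)
    rw [Nat.card_sigma]
    have hR : ∀ R : Sylow p G, Nat.card ({x : (R : Subgroup G) // x ≠ 1} ×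
        ((Cq R) ⧸ ((R : Subgroup G).subgroupOf (Cq R)))) = (p - 1) * c := by
      intro R
      classical
      have := Fintype.ofFinite (R : Subgroup G)
      rw [Nat.card_prod]
      congr 1
      · rw [Nat.card_eq_fintype_card, Fintype.card_subtype_compl, Fintype.card_subtype_eq,
          ← Nat.card_eq_fintype_card, card_sylow_eq_prime h1 h2 R]
      · exact hidx R
    rw [Finset.sum_congr rfl (fun R _ => hR R), Finset.sum_const, smul_eq_mul, Finset.card_univ,
      ← Nat.card_eq_fintype_card, mul_assoc]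
  have hz : ∀ (R : Sylow p G) (z : Cq R), ((z : G) ^ (p * u)) ^ c = 1 := by
    intro R z
    have h : (z : G) ^ Nat.card (Cq R) = 1 := congrArg Subtype.val (pow_card_eq_one' (x := z))
    rw [card_centralizer h1 h2 R, cOf_congr R P, ← hc] at h
    rw [← pow_mul, mul_comm p u, mul_assoc, mul_comm u, pow_mul, h, one_pow]
  have hcomm : ∀ (R : Sylow p G) (x : (R : Subgroup G)) (z : Cq R), Commute (x : G) (z : G) :=
    fun R x z => mem_centralizer_iff.mp z.2 _ x.2
  have hxp : ∀ (R : Sylow p G) (x : (R : Subgroup G)), (x : G) ^ p = 1 := fun R x => by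
    have := congrArg Subtype.val (pow_card_eq_one' (x := x))
    rwa [card_sylow_eq_prime h1 h2 R, coe_pow, coe_one] at this
  have hxc : ∀ (R : Sylow p G) (x : (R : Subgroup G)), x ≠ 1 → (x : G) ^ c ≠ 1 := by
    intro R x hx h
    refine hx (Subtype.ext ?_)
    have := pow_gcd_eq_one.mpr ⟨hxp R x, h⟩
    rwa [hcop, pow_one] at this
  let val : D → G := fun d => (d.2.1.1 : G) * ((Quotient.out d.2.2 : Cq d.1) : G) ^ (p * u)
  have hvalc : ∀ d : D, val d ^ c = (d.2.1.1 : G) ^ c := fun d => by
    show (_ * _) ^ c = _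
    rw [((hcomm d.1 d.2.1.1 _).pow_right _).mul_pow, hz, mul_one]
  refine hD ▸ Nat.card_le_card_of_injective (fun d => (⟨val d, ?_, ?_⟩ :
    {g : G // p ∣ orderOf g ∧ orderOf g ∣ p * c})) ?_
  · by_contra hnp
    have hpc : orderOf (val d) ∣ p * c := orderOf_dvd_of_pow_eq_one (by
      rw [mul_comm, pow_mul, hvalc, ← pow_mul, mul_comm, pow_mul, hxp, one_pow])
    have := ((hp.out.coprime_iff_not_dvd).mpr hnp).symm.dvd_of_dvd_mul_left hpc
    exact hxc d.1 _ d.2.1.2 ((hvalc d).symm.trans (orderOf_dvd_iff_pow_eq_one.mp this))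
  · exact orderOf_dvd_of_pow_eq_one (by
      rw [mul_comm, pow_mul, hvalc, ← pow_mul, mul_comm, pow_mul, hxp, one_pow])
  · rintro ⟨R, ⟨x, hx⟩, k⟩ ⟨R', ⟨x', hx'⟩, k'⟩ he
    have he' : val ⟨R, ⟨x, hx⟩, k⟩ = val ⟨R', ⟨x', hx'⟩, k'⟩ := congrArg Subtype.val he
    have hxx : (x : G) ^ c = (x' : G) ^ c := by
      rw [← hvalc ⟨R, ⟨x, hx⟩, k⟩, he', hvalc ⟨R', ⟨x', hx'⟩, k'⟩]
    obtain rfl : R = R' := by
      have hgen : ∀ (R : Sylow p G) (a : G), a ∈ (R : Subgroup G) → a ≠ 1 →
          zpowers a = (R : Subgroup G) := by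
        intro R a ha ha1
        refine eq_of_le_of_card_ge (zpowers_le.mpr ha) ?_
        rw [card_sylow_eq_prime h1 h2 R, Nat.card_zpowers]
        have hd : orderOf a ∣ p := orderOf_dvd_of_pow_eq_one (hxp R ⟨a, ha⟩)
        rcases (Nat.dvd_prime hp.out).mp hd with h | h
        · exact absurd (orderOf_eq_one_iff.mp h) ha1
        · exact h.ge
      refine Sylow.ext ((hgen R _ (pow_mem x.2 c) (hxc R x hx)).symm.trans ?_)
      rw [hxx]
      exact hgen R' _ (pow_mem x'.2 c) (hxc R' x' hx')
    obtain rfl : x = x' := by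
      refine Subtype.ext ?_
      by_contra hne
      refine hxc R (x⁻¹ * x') (fun h => hne (congrArg Subtype.val (inv_mul_eq_one.mp h))) ?_
      have := isMulCommutative_sylow h1 h2 R
      have hcx : Commute x⁻¹ x' := mul_comm' _ _
      rw [← coe_pow, hcx.mul_pow, coe_mul, inv_pow, coe_inv, coe_pow, coe_pow, hxx, inv_mul_cancel]
    have h6 : ((Quotient.out k : Cq R) : G) ^ (p * u) = ((Quotient.out k' : Cq R) : G) ^ (p * u) :=
      mul_left_cancel he'
    have hmk : ∀ q : (Cq R) ⧸ ((R : Subgroup G).subgroupOf (Cq R)),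
        QuotientGroup.mk ((Quotient.out q : Cq R) ^ (p * u)) = q := by
      intro q
      have := hnorm R
      rw [QuotientGroup.mk_pow, QuotientGroup.out_eq']
      have h : q ^ c = 1 := by
        rw [← hidx R]; exact pow_card_eq_one'
      rw [pow_eq_pow_mod _ h, hu1, ← pow_eq_pow_mod _ h, pow_one]
    have h7 : (Quotient.out k : Cq R) ^ (p * u) = (Quotient.out k' : Cq R) ^ (p * u) :=
      Subtype.ext (by rw [coe_pow, coe_pow]; exact h6)
    rw [← hmk k, h7, hmk k']

end CfsgLib.Orders175560
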