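import Cfsg.Agent.Lib.Orders175560.Local

/-!
A group of order dividing `175560` is simple of that order or has a normal Sylow `19`-subgroup.
-/

set_option autoImplicit false

namespace CfsgLib.Orders175560

open Subgroup
open scoped Pointwise

variable {G : Type*} [Group G] [Finite G]

theorem isMember_primesOf {m p : ℕ} (h : p ∈ primesOf m) : p.Prime ∧ p ∣ m := by
  rw [primesOf, List.mem_filter, beq_iff_eq] at h
  refine ⟨?_, Nat.dvd_of_mod_eq_zero h.2⟩
  have h1 := h.1
  simp only [List.mem_cons, List.not_mem_nil, or_false] at h1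
  rcases h1 with rfl | rfl | rfl | rfl | rfl <;> norm_num

theorem sq_not_dvd {m p : ℕ} (hm : m ∣ 175560) (h : p ∈ primesOf m) : ¬ p * p ∣ m := by
  intro hd
  rw [primesOf, List.mem_filter] at h
  have h1 := h.1
  simp only [List.mem_cons, List.not_mem_nil, or_false] at h1
  rcases h1 with rfl | rfl | rfl | rfl | rfl <;> exact absurd (hd.trans hm) (by norm_num)

theorem le_nineteen {m p : ℕ} (h : p ∈ primesOf m) : p ≤ 19 := by
  rw [primesOf, List.mem_filter] at h
  have h1 := h.1
  simp only [List.mem_cons, List.not_mem_nil, or_false] at h1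
  omega

/-- The data of the group at `p`. -/
noncomputable def rowOf (G : Type*) [Group G] (p : ℕ) : Row :=
  (p, Nat.card (Sylow p G), cOf (Classical.arbitrary (Sylow p G)),
    rOf (Classical.arbitrary (Sylow p G)))

section Twenty

variable [hp : Fact (Nat.Prime 19)] (h1 : 19 ∣ Nat.card G) (h2 : ¬ 19 * 19 ∣ Nat.card G)
  (h20 : Nat.card (Sylow 19 G) = 20)

include h1 h2 in
theorem zpowers_eq_sylow {P : Sylow 19 G} {x : G} (hx : x ∈ (P : Subgroup G)) (hx1 : x ≠ 1) :
    zpowers x = (P : Subgroup G) := by
  have hP := card_sylow_eq_prime h1 h2 P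
  refine eq_of_le_of_card_ge (zpowers_le.mpr hx) ?_
  rw [hP, Nat.card_zpowers]
  have hd : orderOf x ∣ 19 := by
    have := orderOf_dvd_natCard (⟨x, hx⟩ : (P : Subgroup G))
    rwa [hP, orderOf_mk] at this
  rcases (Nat.dvd_prime hp.out).mp hd with h | h
  · exact absurd (orderOf_eq_one_iff.mp h) hx1
  · exact h.ge

include h1 h2 in
theorem eq_of_mem_normalizer {P Q : Sylow 19 G} {x : G} (hx : x ∈ (P : Subgroup G)) (hx1 : x ≠ 1)
    (hQ : x • Q = Q) : P = Q := by
  have hxQ : zpowers x ≤ normalizer (Q : Set G) := by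
    rw [zpowers_le]; exact Sylow.smul_eq_iff_mem_normalizer.mp hQ
  rw [zpowers_eq_sylow h1 h2 hx hx1] at hxQ
  have hle : (P : Subgroup G) ≤ (Q : Subgroup G) := by
    have := P.isPGroup'.inf_normalizer_sylow Q
    rw [inf_eq_left.mpr hxQ] at this
    exact inf_eq_left.mp this.symm
  exact Sylow.ext (eq_of_le_of_card_ge hle (by
    rw [card_sylow_eq_prime h1 h2 P, card_sylow_eq_prime h1 h2 Q]))

variable (hc : ∀ P : Sylow 19 G, cOf P = 1)

include h1 h2 h20 hc in
/-- A non-identity element normalises at most two of the twenty Sylow subgroups. -/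
theorem fixed_le_two {z : G} (hz : z ≠ 1) :
    Nat.card {R : Sylow 19 G // z • R = R} ≤ 2 := by
  classical
  have := Fintype.ofFinite (Sylow 19 G)
  by_contra hlt
  rw [not_le, Nat.card_eq_fintype_card, Fintype.card_subtype] at hlt
  obtain ⟨P, Q, R, hP, hQ, hR, hPQ, hPR, hQR⟩ := Finset.two_lt_card_iff.mp hlt
  simp only [Finset.mem_filter, Finset.mem_univ, true_and] at hP hQ hR
  let f : ↥(P : Subgroup G) → {S : Sylow 19 G // S ≠ P} := fun x =>
    ⟨(x : G) • Q, fun h => hPQ (by
      have hx : (x : G) • P = P := Sylow.smul_eq_iff_mem_normalizer.mpr (le_normalizer x.2)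
      exact (smul_left_cancel (x : G) (h.trans hx.symm)).symm)⟩
  have hinj : Function.Injective f := by
    intro x y hxy
    have h : (x : G) • Q = (y : G) • Q := congrArg Subtype.val hxy
    by_contra hne
    refine hPQ (eq_of_mem_normalizer h1 h2 (x := (y : G)⁻¹ * (x : G))
      (mul_mem (inv_mem y.2) x.2) (fun h => hne (Subtype.ext (inv_mul_eq_one.mp h).symm)) ?_)
    rw [mul_smul, h, inv_smul_smul]
  have hcard : Nat.card {S : Sylow 19 G // S ≠ P} = 19 := by
    rw [Nat.card_eq_fintype_card, Fintype.card_subtype_compl, Fintype.card_subtype_eq,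
      ← Nat.card_eq_fintype_card, h20]
  obtain ⟨x, hx⟩ := (hinj.bijective_of_nat_card_le
    (by rw [hcard, card_sylow_eq_prime h1 h2 P])).2 ⟨R, Ne.symm hPR⟩
  have hx' : (x : G) • Q = R := congrArg Subtype.val hx
  have hzP : z ∈ normalizer (P : Set G) := Sylow.smul_eq_iff_mem_normalizer.mp hP
  have hzx : z * x * z⁻¹ ∈ (P : Subgroup G) := (mem_normalizer_iff.mp hzP x).mp x.2
  have hzQ : z⁻¹ • Q = Q := inv_smul_eq_iff.mpr hQ.symm
  have hx1 : (x : G) ≠ 1 := fun h => hQR (by rw [← hx', h, one_smul])
  have hcomm : (x : G)⁻¹ * (z * x * z⁻¹) = 1 := by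
    by_contra hne
    refine hPQ (eq_of_mem_normalizer h1 h2 (mul_mem (inv_mem x.2) hzx) hne ?_)
    rw [mul_smul, mul_smul, mul_smul, hzQ, hx', hR, ← hx', inv_smul_smul]
  have hzC : z ∈ centralizer ((P : Subgroup G) : Set G) := by
    rw [← zpowers_eq_sylow h1 h2 x.2 hx1, mem_centralizer_iff]
    intro w hw
    obtain ⟨k, rfl⟩ := mem_zpowers_iff.mp hw
    have h3 : Commute z (x : G) := by
      rw [inv_mul_eq_one] at hcomm
      show z * x = x * z
      calc z * (x : G) = z * x * z⁻¹ * z := by group
        _ = x * z := by rw [← hcomm]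
    exact (h3.zpow_right k).symm.eq
  have heq : (P : Subgroup G) = centralizer ((P : Subgroup G) : Set G) :=
    eq_of_le_of_card_ge (sylow_le_centralizer h1 h2 P)
      (by rw [card_centralizer h1 h2 P, hc, mul_one, card_sylow_eq_prime h1 h2 P])
  rw [← heq] at hzC
  exact hPQ (eq_of_mem_normalizer h1 h2 hzC hz hQ)

end Twenty

/-- The counted elements are non-identity elements of order divisible by one of the primes. -/
theorem count_le (hm : Nat.card G ∣ 175560) :
    ∀ ps : List ℕ, ps.Nodup → (∀ p ∈ ps, p ∈ primesOf (Nat.card G)) →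
      count (ps.map (rowOf G)) ≤ Nat.card {g : G // ∃ p ∈ ps, p ∣ orderOf g} := by
  intro ps
  induction ps with
  | nil => intro _ _; simp [count]
  | cons p ps ih =>
    intro hnd hmem
    obtain ⟨hpp, hpd⟩ := isMember_primesOf (hmem p (List.mem_cons_self ..))
    have := Fact.mk hpp
    have h2 := sq_not_dvd hm (hmem p (List.mem_cons_self ..))
    have hps : ∀ q ∈ ps, q.Prime ∧ q ≠ p := fun q hq =>
      ⟨(isMember_primesOf (hmem q (List.mem_cons_of_mem _ hq))).1,
        fun h => (List.nodup_cons.mp hnd).1 (h ▸ hq)⟩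
    have hih := ih (List.nodup_cons.mp hnd).2 fun q hq => hmem q (List.mem_cons_of_mem _ hq)
    set P := Classical.arbitrary (Sylow p G) with hP
    have key : Nat.card (Sylow p G) * (p - 1) *
        (if (ps.map (rowOf G)).all (fun b => cOf P % b.1 != 0) then cOf P else 1) ≤
        Nat.card {g : G // p ∣ orderOf g ∧ ∀ q ∈ ps, ¬ q ∣ orderOf g} := by
      split_ifs with hall
      · refine (card_singular_le hpd h2 P).trans
          (Nat.card_le_card_of_injective (fun g => ⟨g.1, g.2.1, fun q hq hqd => ?_⟩)
            fun a b h => Subtype.ext (congrArg Subtype.val h :))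
        have hd : q ∣ p * cOf P := hqd.trans g.2.2
        rcases (hps q hq).1.dvd_mul.mp hd with h | h
        · exact (hps q hq).2 ((Nat.prime_dvd_prime_iff_eq (hps q hq).1 hpp).mp h)
        · have := List.all_eq_true.mp hall _ (List.mem_map_of_mem hq)
          simp only [rowOf, bne_iff_ne, ne_eq] at this
          exact this (Nat.mod_eq_zero_of_dvd h)
      · rw [mul_one]
        classical
        let f : (Σ R : Sylow p G, {x : ↥(R : Subgroup G) // x ≠ 1}) →
            {g : G // p ∣ orderOf g ∧ ∀ q ∈ ps, ¬ q ∣ orderOf g} := fun s =>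
          ⟨s.2.1.1, by
            have hord : orderOf (s.2.1.1 : G) = p := by
              have hd := orderOf_dvd_natCard s.2.1
              rw [card_sylow_eq_prime hpd h2 s.1] at hd
              rw [orderOf_coe]
              exact ((Nat.dvd_prime hpp).mp hd).resolve_left fun h => s.2.2 (orderOf_eq_one_iff.mp h)
            refine ⟨hord.symm ▸ dvd_rfl, fun q hq hqd => (hps q hq).2 ?_⟩
            rw [hord] at hqd
            exact (Nat.prime_dvd_prime_iff_eq (hps q hq).1 hpp).mp hqd⟩
        have hf : Function.Injective f := by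
          rintro ⟨R, x, hx⟩ ⟨R', x', hx'⟩ h
          have hxx : (x : G) = (x' : G) := congrArg Subtype.val h
          obtain rfl : R = R' := by
            have hz : ∀ (R : Sylow p G) (x : ↥(R : Subgroup G)), x ≠ 1 →
                zpowers (x : G) = (R : Subgroup G) := fun R x hx => by
              refine eq_of_le_of_card_ge (zpowers_le.mpr x.2) ?_
              rw [card_sylow_eq_prime hpd h2 R, Nat.card_zpowers, orderOf_coe]
              have hd := orderOf_dvd_natCard x
              rw [card_sylow_eq_prime hpd h2 R] at hd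
              exact (((Nat.dvd_prime hpp).mp hd).resolve_left
                fun h => hx (orderOf_eq_one_iff.mp h)).ge
            exact Sylow.ext ((hz R x hx).symm.trans ((congrArg zpowers hxx).trans (hz R' x' hx')))
          obtain rfl : x = x' := Subtype.ext hxx
          rfl
        refine le_trans (le_of_eq ?_) (Nat.card_le_card_of_injective f hf)
        have := Fintype.ofFinite (Sylow p G)
        rw [Nat.card_sigma]
        have hR : ∀ R : Sylow p G, Nat.card {x : ↥(R : Subgroup G) // x ≠ 1} = p - 1 := fun R => by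
          have := Fintype.ofFinite (R : Subgroup G)
          rw [Nat.card_eq_fintype_card, Fintype.card_subtype_compl, Fintype.card_subtype_eq,
            ← Nat.card_eq_fintype_card, card_sylow_eq_prime hpd h2 R]
        rw [Finset.sum_congr rfl (fun R _ => hR R), Finset.sum_const, smul_eq_mul, Finset.card_univ,
          ← Nat.card_eq_fintype_card]
    rw [List.map_cons, count]
    refine (Nat.add_le_add hih key).trans ?_
    rw [← Nat.card_sum]
    refine Nat.card_le_card_of_injective
      (Sum.elim (fun g => ⟨g.1, g.2.choose, List.mem_cons_of_mem _ g.2.choose_spec.1, g.2.choose_spec.2⟩)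
        (fun g => ⟨g.1, p, List.mem_cons_self .., g.2.1⟩)) ?_
    refine Function.Injective.sumElim (fun a b h => Subtype.ext (congrArg Subtype.val h :))
      (fun a b h => Subtype.ext (congrArg Subtype.val h :)) ?_
    rintro ⟨g, q, hq, hqd⟩ ⟨g', hp', hn'⟩ h
    obtain rfl : g = g' := congrArg Subtype.val h
    exact hn' q hq hqd

theorem count_lt (hm : Nat.card G ∣ 175560) (ps : List ℕ) (hnd : ps.Nodup)
    (hmem : ∀ p ∈ ps, p ∈ primesOf (Nat.card G)) : count (ps.map (rowOf G)) < Nat.card G := by
  classical
  refine lt_of_le_of_lt (count_le hm ps hnd hmem) ?_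
  have := Fintype.ofFinite G
  rw [Nat.card_eq_fintype_card, Nat.card_eq_fintype_card]
  refine Fintype.card_subtype_lt (x := 1) ?_
  rintro ⟨p, hp, hd⟩
  rw [orderOf_one, Nat.dvd_one] at hd
  exact (isMember_primesOf (hmem p hp)).1.ne_one hd

section Simple

variable [IsSimpleGroup G] (hm : Nat.card G ∣ 175560)
  (h19 : 19 ∣ Nat.card G) (hlt : Nat.card G ≠ 19)

omit [IsSimpleGroup G] in
include hm h19 hlt in
theorem not_isPGroup {p : ℕ} (hp : p ∈ primesOf (Nat.card G)) : ¬ IsPGroup p G := by
  intro h
  obtain ⟨hpp, hpd⟩ := isMember_primesOf hp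
  have := Fact.mk hpp
  obtain ⟨k, hk⟩ := h.exists_card_eq
  have h19p : Nat.Prime 19 := by norm_num
  have hp19 : p = 19 := ((Nat.prime_dvd_prime_iff_eq h19p hpp).mp
    (h19p.dvd_of_dvd_pow (hk ▸ h19))).symm
  subst hp19
  have h2 := sq_not_dvd hm hp
  rcases k with _ | _ | k
  · rw [hk, pow_zero] at h19; exact absurd h19 (by norm_num)
  · exact hlt (by rw [hk, pow_one])
  · exact h2 ⟨19 ^ k, by rw [hk]; ring⟩

include hm h19 hlt in
theorem rowOf_mem_cands {p : ℕ} (hp : p ∈ primesOf (Nat.card G)) :
    rowOf G p ∈ cands (Nat.card G) p := by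
  obtain ⟨hpp, hpd⟩ := isMember_primesOf hp
  have := Fact.mk hpp
  have h2 := sq_not_dvd hm hp
  set P := Classical.arbitrary (Sylow p G) with hP
  set n := Nat.card (Sylow p G) with hn
  have hmul : n * (p * rOf P) = Nat.card G := card_eq_mul hpd h2 P
  obtain ⟨e, he1, hep, her⟩ := exists_ratio hpd h2 P (not_isPGroup hm h19 hlt hp)
  have hn1 : n ≠ 1 := CfsgLib.Perm.card_sylow_ne_one hpd (not_isPGroup hm h19 hlt hp)
  have hnp : n % p = 1 := by
    have h : n % p = 1 % p := card_sylow_modEq_one p G
    rwa [Nat.one_mod_eq_one.mpr hpp.ne_one] at h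
  have hdiv : Nat.card G / p = n * rOf P := by
    rw [← hmul, mul_left_comm, Nat.mul_div_cancel_left _ hpp.pos]
  have hn0 : 0 < n := Nat.card_pos
  have hdiv2 : Nat.card G / p / n = rOf P := by rw [hdiv, Nat.mul_div_cancel_left _ hn0]
  rw [cands, List.mem_flatMap]
  refine ⟨n, List.mem_filter.mpr ⟨mem_divs ((Dvd.intro _ hmul).trans hm), ?_⟩, ?_⟩
  · simp [hn1, hdiv, hnp]
  refine List.mem_map.mpr ⟨e, List.mem_filter.mpr ⟨List.mem_range.mpr ?_, ?_⟩, ?_⟩
  · have := Nat.le_of_dvd (by have := hpp.two_le; omega) hep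
    have := le_nineteen hp
    have := hpp.two_le
    omega
  · have h20 : p = 19 → n = 20 → rOf P = e := by
      intro hp19 hn20
      subst hp19
      have hc : cOf P = 1 := by
        by_contra hc1
        obtain ⟨q, hq, hqc⟩ := Nat.exists_prime_and_dvd hc1
        have := Fact.mk hq
        -- `C(P)` fixes only `P` among the twenty and commutes with the cycle
        obtain ⟨y, hy⟩ := exists_prime_orderOf_dvd_card'
          (G := centralizer ((P : Subgroup G) : Set G)) q
          (by rw [card_centralizer hpd h2 P]; exact hqc.mul_left 19)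
        have hy1 : (y : G) ≠ 1 := fun h => hq.ne_one (by rw [← hy, ← orderOf_coe, h, orderOf_one])
        have hyP : (y : G) • P = P := Sylow.smul_eq_iff_mem_normalizer.mpr
          (centralizer_le_normalizer _ y.2)
        -- `y` commutes with `P`, so its fixed set is `P`-invariant, hence `{P}` or everything
        obtain ⟨Q, hQP⟩ : ∃ Q : Sylow 19 G, Q ≠ P := by
          by_contra hno
          push Not at hno
          have : Subsingleton (Sylow 19 G) := ⟨fun a b => (hno a).trans (hno b).symm⟩
          rw [hn, Nat.card_unique] at hn20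
          omega
        classical
        have := Fintype.ofFinite (Sylow 19 G)
        have hreg : ∀ S : Sylow 19 G, S ≠ P → ∃ w : ↥(P : Subgroup G), (w : G) • Q = S := by
          let f : ↥(P : Subgroup G) → {S : Sylow 19 G // S ≠ P} := fun x =>
            ⟨(x : G) • Q, fun h => hQP (by
              have hxP : (x : G) • P = P := Sylow.smul_eq_iff_mem_normalizer.mpr (le_normalizer x.2)
              exact smul_left_cancel (x : G) (h.trans hxP.symm))⟩
          have hinj : Function.Injective f := by
            intro a b hab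
            have hab' : (a : G) • Q = (b : G) • Q := congrArg Subtype.val hab
            by_contra hne
            refine hQP (eq_of_mem_normalizer hpd h2 (x := (b : G)⁻¹ * (a : G))
              (mul_mem (inv_mem b.2) a.2) (fun h => hne (Subtype.ext (inv_mul_eq_one.mp h).symm)) ?_).symm
            rw [mul_smul, hab', inv_smul_smul]
          have hcard : Nat.card {S : Sylow 19 G // S ≠ P} = 19 := by
            rw [Nat.card_eq_fintype_card, Fintype.card_subtype_compl, Fintype.card_subtype_eq,
              ← Nat.card_eq_fintype_card, ← hn, hn20]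
          intro S hS
          obtain ⟨w, hw⟩ := (hinj.bijective_of_nat_card_le
            (by rw [hcard, card_sylow_eq_prime hpd h2 P])).2 ⟨S, hS⟩
          exact ⟨w, congrArg Subtype.val hw⟩
        obtain ⟨x, hx⟩ : ∃ x : ↥(P : Subgroup G), (x : G) • Q = (y : G) • Q :=
          hreg _ fun h => hQP (smul_left_cancel (y : G) (h.trans hyP.symm))
        have hcomm : ∀ w : ↥(P : Subgroup G), (w : G) * (y : G) = (y : G) * (w : G) := fun w =>
          mem_centralizer_iff.mp y.2 _ w.2
        set z := (x : G)⁻¹ * (y : G) with hz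
        have hzQ : z • Q = Q := by rw [hz, mul_smul, ← hx, inv_smul_smul]
        have hzC : z ∈ centralizer ((P : Subgroup G) : Set G) :=
          mul_mem (inv_mem (sylow_le_centralizer hpd h2 P x.2)) y.2
        -- `z` fixes `Q` and commutes with the transitive group `P`, so it fixes everything
        have hall : ∀ S : Sylow 19 G, z • S = S := by
          intro S
          by_cases hS : S = P
          · subst hS
            exact Sylow.smul_eq_iff_mem_normalizer.mpr (centralizer_le_normalizer _ hzC)
          obtain ⟨w, hw'⟩ := hreg S hS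
          rw [← hw', ← mul_smul, ← mem_centralizer_iff.mp hzC _ w.2, mul_smul, hzQ]
        have hz1 : z = 1 := by
          have hker : z ∈ (MulAction.toPermHom G (Sylow 19 G)).ker :=
            MonoidHom.mem_ker.mpr (Equiv.ext hall)
          rcases (MonoidHom.normal_ker (MulAction.toPermHom G (Sylow 19 G))).eq_bot_or_eq_top with
            hb | ht
          · rwa [hb, mem_bot] at hker
          · exfalso
            obtain ⟨g, hg⟩ := MulAction.exists_smul_eq G P Q
            have hmem : g ∈ (MulAction.toPermHom G (Sylow 19 G)).ker := ht ▸ mem_top g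
            have h3 : g • P = P := congrArg (fun σ : Equiv.Perm (Sylow 19 G) => σ P) hmem
            exact hQP (hg.symm.trans h3)
        have hyx : (y : G) = x := (inv_mul_eq_one.mp hz1).symm
        have hd : orderOf (y : G) ∣ 19 := by
          rw [hyx, orderOf_coe]
          have h := orderOf_dvd_natCard x
          rwa [card_sylow_eq_prime hpd h2 P] at h
        rw [orderOf_coe, hy] at hd
        exact not_dvd_cOf hpd h2 P ((Nat.prime_dvd_prime_iff_eq hq hpp).mp hd ▸ hqc)
      rw [her, hc, mul_one]
    simp only [Bool.and_eq_true, decide_eq_true_eq, beq_iff_eq, Bool.or_eq_true,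
      Bool.not_eq_true', Bool.and_eq_false_iff, beq_eq_false_iff_ne, hdiv2]
    refine ⟨⟨⟨he1, ?_⟩, Nat.mod_eq_zero_of_dvd hep⟩, ?_⟩
    · rw [her, Nat.mul_mod_right]
    · by_cases hp19 : p = 19
      · by_cases hn20 : n = 20
        · exact Or.inr (h20 hp19 hn20)
        · exact Or.inl (Or.inr hn20)
      · exact Or.inl (Or.inl hp19)
  · rw [hdiv2, rowOf, ← hP, her, Nat.mul_div_cancel_left _ (by omega)]

omit [IsSimpleGroup G] in
include hm in
theorem comp_rowOf {p q : ℕ} (hp : p ∈ primesOf (Nat.card G)) (hq : q ∈ primesOf (Nat.card G))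
    (hne : q ≠ p) : comp (rowOf G p) (rowOf G q) = true := by
  obtain ⟨hpp, hpd⟩ := isMember_primesOf hp
  obtain ⟨hqp, hqd⟩ := isMember_primesOf hq
  have := Fact.mk hpp
  have := Fact.mk hqp
  set P := Classical.arbitrary (Sylow p G) with hP
  simp only [comp, rowOf, ← hP, Bool.or_eq_true, bne_iff_ne, ne_eq, Bool.and_eq_true, beq_iff_eq,
    List.any_eq_true, decide_eq_true_eq]
  by_cases hqc : q ∣ cOf P
  · obtain ⟨Q, -, -, hpc⟩ := exists_centralizing hpd (sq_not_dvd hm hp) P hqd (sq_not_dvd hm hq) hne hqc
    refine Or.inr ⟨Nat.mod_eq_zero_of_dvd (cOf_congr Q _ ▸ hpc), ?_⟩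
    rcases sylow_in_centralizer hpd (sq_not_dvd hm hp) P hqd (sq_not_dvd hm hq) hne hqc with
      ⟨d, hd1, hd2, hd3⟩ | h
    · refine Or.inl ⟨d, mem_divs (hd2.trans ?_), ⟨hd1, Nat.mod_eq_zero_of_dvd hd2⟩, hd3⟩
      refine (Nat.div_dvd_of_dvd hqc).trans (((Dvd.intro_left p rfl).trans ?_).trans hm)
      exact card_centralizer hpd (sq_not_dvd hm hp) P ▸ card_subgroup_dvd_card _
    · exact Or.inr (Nat.mod_eq_zero_of_dvd (h _))
  · exact Or.inl fun h => hqc (Nat.dvd_of_mod_eq_zero h)

include hm h19 hlt in
theorem mem_search : ∀ (ps : List ℕ) (done : List ℕ), (done.reverse ++ ps).Nodup →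
    (∀ p ∈ done.reverse ++ ps, p ∈ primesOf (Nat.card G)) →
    (ps.reverse ++ done).map (rowOf G) ∈ search (Nat.card G) ps (done.map (rowOf G)) := by
  intro ps
  induction ps with
  | nil =>
    intro done hnd hmem
    rw [List.append_nil] at hnd hmem
    have h := count_lt hm done (List.nodup_reverse.mp hnd) fun p hp => hmem p (List.mem_reverse.mpr hp)
    rw [search, if_neg (by omega)]
    simp
  | cons p ps ih =>
    intro done hnd hmem
    have hd' : done.Nodup ∧ p ∉ done := by
      have h := hnd
      rw [List.nodup_append] at h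
      exact ⟨List.nodup_reverse.mp h.1, fun hp => h.2.2 p (List.mem_reverse.mpr hp) p
        (List.mem_cons_self ..) rfl⟩
    have hmd : ∀ q ∈ done, q ∈ primesOf (Nat.card G) := fun q hq =>
      hmem q (List.mem_append_left _ (List.mem_reverse.mpr hq))
    have hmp : p ∈ primesOf (Nat.card G) := hmem p (List.mem_append_right _ (List.mem_cons_self ..))
    have hc := count_lt hm done hd'.1 hmd
    rw [search, if_neg (by omega), List.mem_flatMap]
    refine ⟨rowOf G p, rowOf_mem_cands hm h19 hlt hmp, ?_⟩
    rw [if_pos]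
    · have := ih (p :: done) (by simpa using hnd) (fun q hq => hmem q (by simpa using hq))
      simpa using this
    · rw [List.all_eq_true]
      intro b hb
      obtain ⟨q, hq, rfl⟩ := List.mem_map.mp hb
      have hne : q ≠ p := fun h => hd'.2 (h ▸ hq)
      rw [comp_rowOf hm hmp (hmd q hq) hne, comp_rowOf hm (hmd q hq) hmp hne.symm]
      rfl

end Simple

end CfsgLib.Orders175560
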